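import Mathlib
import Cfsg.Agent.H927.LDTwF4
import Cfsg.Agent.H84.CoreTwFB
import Cfsg.Agent.H147.SzReal
import Cfsg.Agent.SM.Ti.Box
import Cfsg.Agent.Lib.Zsigmondy
import Cfsg.Agent.S1068
import Cfsg.Agent.FastGrp
import Cfsg.Agent.Prune
set_option linter.all false

section
prune_inst 0x7fffecf9bbb8ffffffff7e7faedcdffdfdbdbfffa6dff9fbffe0e3ff8bdfdb02c9f5fbad6feb5bfe0ef6c03c18fc7bd3fdfffabfe86bfc7ffffd5ff45ffbfe0ffdf7bd0971d68c3e0fbc6ff783f0778e7f3fffffffffffffffffffffffffffbeffbfffffffff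

-- part: H315/TwF/Grp
section
prune_inst 0x3000400000000000000000220000040000000000000000000000000000000000000000000000100000000000000000001000100000000000000200000400000029000200100800000086000000000000000000000000000000000000000000000000000
set_option linter.all false
open scoped Cfsg.Agent.FastGrp

-- part: H315/TwF/Eig
section
/-!
# Two commuting subgroups with elements of order five and of prime order `r` (helper315)

`ρ : G → GL(V)` over an algebraically closed field, `S₁`, `S₂` commuting subgroups of `G`, `a i`, `x i ∈ S i` of order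
`5`, `r`, `a i` conjugate to its cube and `x i` to its inverse in `S i`; `s : V → V` a `q`-semilinear map commuting with
`G`.  If sufficiently many characters of `⟨a 1, a 2⟩` occur then `6 t ≤ dim V`, `t` the order of `q` modulo `r`.
-/

set_option autoImplicit false
set_option linter.unusedSectionVars false

namespace Cfsg.Agent.H315.TwF

variable {k V G : Type*} [Field k] [AddCommGroup V] [Module k V] [Group G]

theorem rmul (ρ : G →* Module.End k V) (g g' : G) (v : V) : ρ (g * g') v = ρ g (ρ g' v) := by rw [map_mul]; rfl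

theorem rone (ρ : G →* Module.End k V) (v : V) : ρ 1 v = v := by rw [map_one]; rfl

theorem rinv (ρ : G →* Module.End k V) (g : G) (v : V) : ρ g⁻¹ (ρ g v) = v := by
  rw [← rmul, inv_mul_cancel, rone]

theorem rinv' (ρ : G →* Module.End k V) (g : G) (v : V) : ρ g (ρ g⁻¹ v) = v := by
  rw [← rmul, mul_inv_cancel, rone]

theorem rne (ρ : G →* Module.End k V) (g : G) {v : V} (hv : v ≠ 0) : ρ g v ≠ 0 := fun h => hv (by
  rw [← rinv ρ g v, h, map_zero])

theorem rpow (ρ : G →* Module.End k V) {g : G} {v : V} {x : k} (h : ρ g v = x • v) (n : ℕ) :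
    ρ (g ^ n) v = x ^ n • v := by
  induction n with
  | zero => rw [pow_zero, pow_zero, rone, one_smul]
  | succ n ih => rw [pow_succ, rmul, h, map_smul, ih, smul_smul]; congr 1; ring

theorem eig_pow {ρ : G →* Module.End k V} {g : G} {v : V} {x : k} (hv : v ≠ 0) (h : ρ g v = x • v) {n : ℕ}
    (hn : g ^ n = 1) : x ^ n = 1 := by
  have h1 := rpow ρ h n
  rw [hn, rone] at h1
  have h2 : (x ^ n - 1) • v = 0 := by rw [sub_smul, one_smul, ← h1, sub_self]
  rcases smul_eq_zero.1 h2 with h3 | h3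
  · exact sub_eq_zero.1 h3
  · exact absurd h3 hv

/-! ### counting eigenvalues -/

theorem card_le [FiniteDimensional k V] (f : Module.End k V) (E : Submodule k V) (B : Finset k)
    (h : ∀ b ∈ B, ∃ v ∈ E, v ≠ 0 ∧ f v = b • v) : B.card ≤ Module.finrank k E := by
  classical
  choose! w hw hw0 hwe using h
  have hli := Module.End.eigenvectors_linearIndependent' f (fun b : B => (b : k)) Subtype.val_injective
    (fun b : B => w b) (fun b => ⟨Module.End.mem_eigenspace_iff.2 (hwe b b.2), hw0 b b.2⟩)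
  have hli' : LinearIndependent k fun b : B => (⟨w b, hw b b.2⟩ : E) :=
    LinearIndependent.of_comp (Submodule.subtype _) hli
  have := hli'.fintype_card_le_finrank
  rwa [Fintype.card_coe] at this

theorem sum_le [FiniteDimensional k V] (f : Module.End k V) (A : Finset k) :
    ∑ α ∈ A, Module.finrank k (f.eigenspace α) ≤ Module.finrank k V := by
  classical
  have h0 := (Module.End.eigenspaces_iSupIndep f).comp (Subtype.val_injective (p := fun x => x ∈ A))
  have h1 := LinearMap.finrank_le_finrank_of_injective h0.dfinsupp_lsum_injective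
  rw [show Module.finrank k (Π₀ i : A, (f.eigenspace ∘ Subtype.val) i) =
    Module.finrank k (DirectSum A fun i => (f.eigenspace ∘ Subtype.val) i) from rfl, Module.finrank_directSum] at h1
  rw [← Finset.sum_coe_sort]
  exact h1

/-- a nontrivial eigenvalue on an invariant subspace -/
theorem exists_ne_one [IsAlgClosed k] [FiniteDimensional k V] (ρ : G →* Module.End k V) {g : G} {N : ℕ}
    (hN : (N : k) ≠ 0) (hg : g ^ N = 1) {M : Submodule k V} (hM : ∀ v ∈ M, ρ g v ∈ M) (hne : ¬ ∀ v ∈ M, ρ g v = v) :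
    ∃ x : k, x ≠ 1 ∧ ∃ v ∈ M, v ≠ 0 ∧ ρ g v = x • v := by
  set L : Submodule k V := M.map (ρ g - 1) with hL
  have hL0 : L ≠ ⊥ := by
    intro h0
    apply hne
    intro v hv
    have h1 : (ρ g - 1) v ∈ L := Submodule.mem_map_of_mem hv
    rw [h0, Submodule.mem_bot, LinearMap.sub_apply, sub_eq_zero] at h1
    exact h1
  have hLM : L ≤ M := by
    rintro _ ⟨v, hv, rfl⟩
    exact Submodule.sub_mem _ (hM v hv) hv
  have hLg : ∀ w ∈ L, ρ g w ∈ L := by
    rintro _ ⟨v, hv, rfl⟩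
    refine ⟨ρ g v, hM v hv, ?_⟩
    simp only [_root_.LinearMap.sub_apply, _root_.Module.End.one_apply, _root_.map_sub]
  have : Nontrivial L := Submodule.nontrivial_iff_ne_bot.2 hL0
  obtain ⟨x, hx⟩ := Module.End.exists_eigenvalue ((ρ g).restrict hLg)
  obtain ⟨v, hv⟩ := hx.exists_hasEigenvector
  have hxv : ρ g (v : V) = x • (v : V) := congrArg Subtype.val hv.apply_eq_smul
  have hv0 : (v : V) ≠ 0 := fun h => hv.2 (Subtype.ext h)
  refine ⟨x, ?_, v, hLM v.2, hv0, hxv⟩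
  rintro rfl
  rw [one_smul] at hxv
  obtain ⟨u, hu, huv⟩ := v.2
  have huv' : ρ g u = u + v := by
    rw [← huv]; simp
  have key : ∀ n : ℕ, ρ (g ^ n) u = u + (n : k) • (v : V) := by
    intro n
    induction n with
    | zero => rw [pow_zero, rone, Nat.cast_zero, zero_smul, add_zero]
    | succ n ih =>
      have h2 : ρ (g ^ n) (v : V) = v := by
        have := rpow ρ (x := 1) (by rw [one_smul]; exact hxv) n
        rwa [one_pow, one_smul] at this
      rw [pow_succ, rmul, huv', map_add, ih, h2, Nat.cast_succ, add_smul, one_smul, add_assoc]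
  have h3 := key N
  rw [hg, rone] at h3
  have h4 : (N : k) • (v : V) = 0 := by
    have : u + (N : k) • (v : V) = u + 0 := by rw [add_zero]; exact h3.symm
    exact add_left_cancel this
  exact (smul_ne_zero hN hv0) h4

/-- **Parity**: `X ^ r = 1`, `r` odd, `X` inverted by `Y`, no fixed vector. -/
theorem even_finrank {E : Type*} [AddCommGroup E] [Module k E] [IsAlgClosed k] [FiniteDimensional k E]
    (X Y : Module.End k E) {r : ℕ} (hr : Odd r) (hr0 : (r : k) ≠ 0) (hX : X ^ r = 1) (hY : Function.Injective Y)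
    (hXY : ∀ v, X (Y (X v)) = Y v) (hfix : ∀ v, X v = v → v = 0) : Even (Module.finrank k E) := by
  classical
  have hrpos : 0 < r := hr.pos
  -- semisimple
  have hss : X.IsSemisimple := by
    refine Module.End.isSemisimple_of_squarefree_aeval_eq_zero (p := Polynomial.X ^ r - Polynomial.C 1) ?_ ?_
    · exact (Polynomial.separable_X_pow_sub_C 1 hr0 one_ne_zero).squarefree
    · simp [hX]
  have htop := hss.iSup_eigenspace_eq_top
  -- eigenvalues
  have hroot : ∀ α : k, X.eigenspace α ≠ ⊥ → α ^ r = 1 := by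
    intro α hα
    obtain ⟨v, hv, hv0⟩ := (Submodule.ne_bot_iff _).1 hα
    rw [Module.End.mem_eigenspace_iff] at hv
    have key : ∀ n : ℕ, (X ^ n) v = α ^ n • v := by
      intro n
      induction n with
      | zero => simp
      | succ n ih => rw [pow_succ, Module.End.mul_apply, hv, map_smul, ih, smul_smul]; congr 1; ring
    have h1 := key r
    rw [hX, Module.End.one_apply] at h1
    have h2 : (α ^ r - 1) • v = 0 := by rw [sub_smul, one_smul, ← h1, sub_self]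
    rcases smul_eq_zero.1 h2 with h3 | h3
    · exact sub_eq_zero.1 h3
    · exact absurd h3 hv0
  set s : Finset k := (Polynomial.X ^ r - Polynomial.C (1 : k)).roots.toFinset with hs
  have hne : (Polynomial.X ^ r - Polynomial.C (1 : k)) ≠ 0 := Polynomial.X_pow_sub_C_ne_zero hrpos 1
  have hmem : ∀ α : k, α ∈ s ↔ α ^ r = 1 := by
    intro α
    rw [hs, Multiset.mem_toFinset, Polynomial.mem_roots hne, Polynomial.IsRoot.def]
    simp only [sub_eq_zero, _root_.map_one, _root_.Polynomial.eval_sub, _root_.Polynomial.eval_pow, _root_.Polynomial.eval_X, _root_.Polynomial.eval_one, _root_.sub_eq_zero]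
  -- the dimension
  have hint : DirectSum.IsInternal (fun μ : k => X.eigenspace μ) :=
    DirectSum.isInternal_submodule_of_iSupIndep_of_iSup_eq_top X.eigenspaces_iSupIndep htop
  have hsum : Module.finrank k E = ∑ α ∈ s, Module.finrank k (X.eigenspace α) := by
    apply le_antisymm
    · have h1 : (⊤ : Submodule k E) ≤ s.sup (fun α => X.eigenspace α) := by
        rw [← htop]
        refine iSup_le fun α => ?_
        by_cases hα : X.eigenspace α = ⊥
        · rw [hα]; exact bot_le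
        · exact Finset.le_sup (f := fun α => X.eigenspace α) ((hmem α).2 (hroot α hα))
      have h2 : ∀ s' : Finset k, Module.finrank k ↥(s'.sup (fun α => X.eigenspace α)) ≤
          ∑ α ∈ s', Module.finrank k (X.eigenspace α) := by
        intro s'
        induction s' using Finset.induction_on with
        | empty => simp only [_root_.Finset.sum_empty, _root_.nonpos_iff_eq_zero, _root_.Submodule.finrank_eq_zero, _root_.Finset.sup_empty]
        | insert a s' ha ih =>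
          rw [Finset.sup_insert, Finset.sum_insert ha]
          exact (Submodule.finrank_add_le_finrank_add_finrank _ _).trans (Nat.add_le_add_left ih _)
      rw [← finrank_top k E]
      exact (Submodule.finrank_mono h1).trans (h2 s)
    · exact sum_le X s
  -- the involution
  have hd : ∀ α : k, α ^ r = 1 → Module.finrank k (X.eigenspace α) ≤ Module.finrank k (X.eigenspace α⁻¹) := by
    intro α hα
    have hα0 : α ≠ 0 := by
      rintro rfl
      rw [zero_pow hrpos.ne'] at hα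
      exact zero_ne_one hα
    have h1 : (X.eigenspace α).map Y ≤ X.eigenspace α⁻¹ := by
      rintro _ ⟨v, hv, rfl⟩
      rw [SetLike.mem_coe, Module.End.mem_eigenspace_iff] at hv
      rw [Module.End.mem_eigenspace_iff, eq_inv_smul_iff₀ hα0, ← map_smul, ← map_smul, ← hv]
      exact hXY v
    have h2 := Submodule.finrank_mono h1
    rwa [← (Submodule.equivMapOfInjective Y hY (X.eigenspace α)).finrank_eq] at h2
  have hinv : ∀ α : k, α ^ r = 1 → (α⁻¹) ^ r = 1 := fun α hα => by rw [inv_pow, hα, inv_one]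
  have hd' : ∀ α : k, α ^ r = 1 → Module.finrank k (X.eigenspace α⁻¹) = Module.finrank k (X.eigenspace α) := by
    intro α hα
    apply le_antisymm _ (hd α hα)
    have := hd α⁻¹ (hinv α hα)
    rwa [inv_inv] at this
  have h1 : Module.finrank k (X.eigenspace (1 : k)) = 0 := by
    rw [Submodule.finrank_eq_zero, Submodule.eq_bot_iff]
    intro v hv
    rw [Module.End.mem_eigenspace_iff, one_smul] at hv
    exact hfix v hv
  have hz : ((Module.finrank k E : ℕ) : ZMod 2) = 0 := by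
    rw [hsum, Nat.cast_sum]
    refine Finset.sum_involution (fun α _ => α⁻¹) ?_ ?_ ?_ ?_
    · intro α hα
      rw [hd' α ((hmem α).1 hα)]
      exact CharTwo.add_self_eq_zero _
    · intro α hα hne1 heq
      have hα1 := (hmem α).1 hα
      have hα0 : α ≠ 0 := by
        rintro rfl
        rw [zero_pow hrpos.ne'] at hα1
        exact zero_ne_one hα1
      have h2 : α ^ 2 = 1 := by
        rw [pow_two]
        nth_rewrite 1 [← heq]
        exact inv_mul_cancel₀ hα0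
      obtain ⟨m, hm⟩ := hr
      have h3 : α = 1 := by
        rw [hm, pow_succ, pow_mul, h2, one_pow, one_mul] at hα1
        exact hα1
      apply hne1
      rw [h3, h1, Nat.cast_zero]
    · intro α hα
      exact (hmem _).2 (hinv α ((hmem α).1 hα))
    · intro α hα
      exact inv_inv α
  exact (ZMod.natCast_eq_zero_iff_even).1 hz

/-! ### one side -/

/-- elements `a` of order five and `x` of order `r` in a subgroup `S` -/
structure Side (ρ : G →* Module.End k V) (r : ℕ) (S : Subgroup G) (a h x g : G) : Prop where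
  ha : a ∈ S
  hh : h ∈ S
  hx : x ∈ S
  hg : g ∈ S
  a5 : a ^ 5 = 1
  conj_a : h * a = a ^ 3 * h
  xr : x ^ r = 1
  conj_x : x * g * x = g
  triv_a : ∀ M : Submodule k V, (∀ y ∈ S, ∀ v ∈ M, ρ y v ∈ M) → (∀ v ∈ M, ρ x v = v) → ∀ v ∈ M, ρ a v = v
  triv_x : ∀ M : Submodule k V, (∀ y ∈ S, ∀ v ∈ M, ρ y v ∈ M) → (∀ v ∈ M, ρ a v = v) → ∀ v ∈ M, ρ x v = v

/-- the powers `x, x³, x⁹, x²⁷` -/
noncomputable def O5 (x : k) : Finset k := by
  classical exact (Finset.range 4).image fun i => x ^ 3 ^ i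

theorem mem_O5 {x y : k} : y ∈ O5 x ↔ ∃ i < 4, x ^ 3 ^ i = y := by
  classical
  unfold O5
  simp

theorem pow_mod {x : k} (hx : x ^ 5 = 1) (n : ℕ) : x ^ n = x ^ (n % 5) := by
  conv_lhs => rw [← Nat.div_add_mod n 5, pow_add, pow_mul, hx, one_pow, one_mul]

theorem card_O5 {x : k} (hx : x ^ 5 = 1) (h1 : x ≠ 1) : (O5 x).card = 4 := by
  classical
  have hp : IsPrimitiveRoot x 5 := by
    have : Fact (Nat.Prime 5) := ⟨by norm_num⟩
    have := IsPrimitiveRoot.orderOf x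
    rwa [orderOf_eq_prime hx h1] at this
  unfold O5
  rw [Finset.card_image_of_injOn, Finset.card_range]
  intro i hi j hj h
  rw [Finset.coe_range, Set.mem_Iio] at hi hj
  have h2 : x ^ (3 ^ i % 5) = x ^ (3 ^ j % 5) := by
    rw [← pow_mod hx, ← pow_mod hx]; exact h
  have h3 := hp.pow_inj (Nat.mod_lt _ (by norm_num)) (Nat.mod_lt _ (by norm_num)) h2
  have h4 : ∀ i j : Fin 4, 3 ^ (i : ℕ) % 5 = 3 ^ (j : ℕ) % 5 → i = j := by decide
  have := h4 ⟨i, hi⟩ ⟨j, hj⟩ h3
  exact congrArg Fin.val this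

theorem one_notMem_O5 {x : k} (hx : x ^ 5 = 1) (h1 : x ≠ 1) : (1 : k) ∉ O5 x := by
  rw [mem_O5]
  rintro ⟨i, hi, h⟩
  apply h1
  have hc : Nat.Coprime (3 ^ i) 5 := Nat.Coprime.pow_left i (by norm_num)
  have h2 : orderOf x ∣ 3 ^ i := orderOf_dvd_of_pow_eq_one h
  have h3 : orderOf x ∣ 5 := orderOf_dvd_of_pow_eq_one hx
  have h4 := Nat.dvd_gcd h2 h3
  rw [hc, Nat.dvd_one, orderOf_eq_one_iff] at h4
  exact h4

section side

variable {ρ : G →* Module.End k V} {r : ℕ} {S : Subgroup G} {a h x g : G} (D : Side ρ r S a h x g)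
include D

theorem Side.cube {E : Submodule k V} (hE : ∀ y ∈ S, ∀ v ∈ E, ρ y v ∈ E) {ψ : k}
    (hψ : ∃ v ∈ E, v ≠ 0 ∧ ρ a v = ψ • v) (i : ℕ) : ∃ v ∈ E, v ≠ 0 ∧ ρ a v = ψ ^ 3 ^ i • v := by
  induction i with
  | zero => simpa only [_root_.ne_eq, _root_.pow_zero, _root_.pow_one] using hψ
  | succ i ih =>
    obtain ⟨v, hv, hv0, hav⟩ := ih
    refine ⟨ρ h⁻¹ v, hE _ (inv_mem D.hh) _ hv, rne ρ _ hv0, ?_⟩
    have e : a * h⁻¹ = h⁻¹ * a ^ 3 := by
      have := D.conj_a
      calc a * h⁻¹ = h⁻¹ * (h * a) * h⁻¹ := by group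
        _ = _ := by rw [this]; group
    rw [← rmul, e, rmul, rpow ρ hav, map_smul, ← pow_mul, ← pow_succ]

variable [FiniteDimensional k V] {E : Submodule k V} (hE : ∀ y ∈ S, ∀ v ∈ E, ρ y v ∈ E) {ψ : k} (hψ1 : ψ ≠ 1)
  (hψ : ∃ v ∈ E, v ≠ 0 ∧ ρ a v = ψ • v)
include hE hψ1 hψ

theorem Side.four_le : 4 ≤ Module.finrank k E := by
  obtain ⟨v, hv, hv0, hav⟩ := hψ
  have h5 : ψ ^ 5 = 1 := eig_pow hv0 hav D.a5
  rw [← card_O5 h5 hψ1]
  refine card_le (ρ a) E _ fun b hb => ?_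
  obtain ⟨i, -, rfl⟩ := mem_O5.1 hb
  exact D.cube hE ⟨v, hv, hv0, hav⟩ i

theorem Side.five_le (h1 : ∃ v ∈ E, v ≠ 0 ∧ ρ a v = v) : 5 ≤ Module.finrank k E := by
  classical
  obtain ⟨v, hv, hv0, hav⟩ := hψ
  have h5 : ψ ^ 5 = 1 := eig_pow hv0 hav D.a5
  have hc : (insert 1 (O5 ψ)).card = 5 := by
    rw [Finset.card_insert_of_notMem (one_notMem_O5 h5 hψ1), card_O5 h5 hψ1]
  rw [← hc]
  refine card_le (ρ a) E _ fun b hb => ?_
  rcases Finset.mem_insert.1 hb with rfl | hb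
  · obtain ⟨w, hw, hw0, haw⟩ := h1
    exact ⟨w, hw, hw0, by rw [one_smul]; exact haw⟩
  · obtain ⟨i, -, rfl⟩ := mem_O5.1 hb
    exact D.cube hE ⟨v, hv, hv0, hav⟩ i

end side

/-- `x` without fixed vectors, `a` with a fixed vector -/
theorem Side.six_le [IsAlgClosed k] [FiniteDimensional k V] {ρ : G →* Module.End k V} {r : ℕ} {S : Subgroup G}
    {a h x g : G} (D : Side ρ r S a h x g) (hr : Odd r) (hr0 : (r : k) ≠ 0) (h50 : (5 : k) ≠ 0) {E : Submodule k V}
    (hE : ∀ y ∈ S, ∀ v ∈ E, ρ y v ∈ E) (hfix : ∀ v ∈ E, ρ x v = v → v = 0) (h1 : ∃ v ∈ E, v ≠ 0 ∧ ρ a v = v) :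
    6 ≤ Module.finrank k E := by
  have hne : ¬ ∀ v ∈ E, ρ a v = v := by
    intro hall
    obtain ⟨v, hv, hv0, -⟩ := h1
    exact hv0 (hfix v hv (D.triv_x E hE hall v hv))
  obtain ⟨ψ, hψ1, hψ⟩ := exists_ne_one ρ (N := 5) (by exact_mod_cast h50) D.a5 (hE a D.ha) hne
  have h5 := D.five_le hE hψ1 hψ h1
  have hev : Even (Module.finrank k E) := by
    have hXr : ∀ v : E, ((ρ x).restrict (hE x D.hx)) v = ⟨ρ x v, hE x D.hx v v.2⟩ := fun v => rfl
    refine even_finrank ((ρ x).restrict (hE x D.hx)) ((ρ g).restrict (hE g D.hg)) hr hr0 ?_ ?_ ?_ ?_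
    · have key : ∀ n : ℕ, ∀ v : E, ((((ρ x).restrict (hE x D.hx)) ^ n) v : V) = ρ (x ^ n) v := by
        intro n
        induction n with
        | zero => intro v; rw [pow_zero, pow_zero, rone]; rfl
        | succ n ih =>
          intro v
          rw [pow_succ, Module.End.mul_apply, ih, pow_succ, rmul]
          rfl
      ext v
      rw [key, D.xr, rone]
      rfl
    · intro v w hvw
      have h2 : ρ g (v : V) = ρ g (w : V) := congrArg Subtype.val hvw
      apply Subtype.ext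
      rw [← rinv ρ g (v : V), h2, rinv]
    · intro v
      apply Subtype.ext
      show ρ x (ρ g (ρ x (v : V))) = ρ g (v : V)
      rw [← rmul, ← rmul]
      rw [D.conj_x]
    · intro v hv
      exact Subtype.ext (hfix v v.2 (congrArg Subtype.val hv))
  obtain ⟨m, hm⟩ := hev
  omega

/-! ### the semilinear map -/

/-- a `q`-semilinear map commuting with `G` -/
structure Semi (ρ : G →* Module.End k V) (q : ℕ) (s : V → V) : Prop where
  rho : ∀ g v, s (ρ g v) = ρ g (s v)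
  smul : ∀ (c : k) v, s (c • v) = c ^ q • s v
  ne : ∀ v, v ≠ 0 → s v ≠ 0

theorem Semi.iter {ρ : G →* Module.End k V} {q : ℕ} {s : V → V} (hs : Semi ρ q s) (i : ℕ) {v : V} {g : G} {x : k}
    (h : ρ g v = x • v) : ρ g (s^[i] v) = x ^ q ^ i • s^[i] v := by
  induction i with
  | zero => simpa using h
  | succ i ih =>
    rw [Function.iterate_succ_apply', ← hs.rho, ih, hs.smul, pow_succ, pow_mul]

theorem Semi.iter_ne {ρ : G →* Module.End k V} {q : ℕ} {s : V → V} (hs : Semi ρ q s) (i : ℕ) {v : V} (h : v ≠ 0) :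
    s^[i] v ≠ 0 := by
  induction i with
  | zero => simpa using h
  | succ i ih =>
    rw [Function.iterate_succ_apply']
    exact hs.ne _ ih

/-- the orbit of `x` under `x ↦ x ^ q` -/
noncomputable def Or (q t : ℕ) (x : k) : Finset k := by
  classical exact (Finset.range t).image fun i => x ^ q ^ i

theorem mem_Or {q t : ℕ} {x y : k} : y ∈ Or q t x ↔ ∃ i < t, x ^ q ^ i = y := by
  classical
  unfold Or
  simp

theorem pow_ne_one {q : ℕ} (hq1 : ∀ α : k, α ^ q = 1 → α = 1) {x : k} (hx : x ≠ 1) (i : ℕ) : x ^ q ^ i ≠ 1 := by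
  induction i with
  | zero => simpa using hx
  | succ i ih =>
    intro h
    rw [pow_succ, pow_mul] at h
    exact ih (hq1 _ h)

theorem inv_eig {ρ : G →* Module.End k V} {S : Subgroup G} {z : G} (hc : ∀ y ∈ S, y * z = z * y) (α : k) :
    ∀ y ∈ S, ∀ v ∈ (ρ z).eigenspace α, ρ y v ∈ (ρ z).eigenspace α := by
  intro y hy v hv
  rw [Module.End.mem_eigenspace_iff] at hv ⊢
  rw [← rmul, ← hc y hy, rmul, hv, map_smul]

/-- **The bound.** -/
theorem six_mul_le [IsAlgClosed k] [FiniteDimensional k V] {ρ : G →* Module.End k V} {r q t : ℕ} (hr : Odd r)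
    (hr0 : (r : k) ≠ 0) (h50 : (5 : k) ≠ 0) {S₁ S₂ : Subgroup G} {a₁ h₁ x₁ g₁ a₂ h₂ x₂ g₂ : G}
    (D₁ : Side ρ r S₁ a₁ h₁ x₁ g₁) (D₂ : Side ρ r S₂ a₂ h₂ x₂ g₂) (comm : ∀ y ∈ S₁, ∀ z ∈ S₂, y * z = z * y)
    {s : V → V} (hs : Semi ρ q s) (hq1 : ∀ α : k, α ^ q = 1 → α = 1)
    (ht : ∀ α : k, α ^ r = 1 → α ≠ 1 → (Or q t α).card = t)
    (e11 : ∃ v : V, v ≠ 0 ∧ ∃ χ ψ : k, χ ≠ 1 ∧ ψ ≠ 1 ∧ ρ a₁ v = χ • v ∧ ρ a₂ v = ψ • v)
    (e01 : ∃ v : V, v ≠ 0 ∧ ∃ ψ : k, ψ ≠ 1 ∧ ρ a₁ v = v ∧ ρ a₂ v = ψ • v)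
    (e10 : ∃ v : V, v ≠ 0 ∧ ∃ χ : k, χ ≠ 1 ∧ ρ a₁ v = χ • v ∧ ρ a₂ v = v) : 6 * t ≤ Module.finrank k V := by
  classical
  have comm' : ∀ y ∈ S₂, ∀ z ∈ S₁, y * z = z * y := fun y hy z hz => (comm z hz y hy).symm
  by_cases P1 : ∀ v, ρ x₁ v = v → ρ x₂ v = v
  · -- `x₁` has no fixed vectors on the eigenspaces of `x₂`
    obtain ⟨w, hw0, ψ, hψ, haw, hbw⟩ := e01
    have hM := inv_eig (ρ := ρ) (S := S₂) (z := a₁) (fun y hy => comm' y hy a₁ D₁.ha) 1
    have hne : ¬ ∀ v ∈ (ρ a₁).eigenspace 1, ρ x₂ v = v := by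
      intro hall
      have h1 := D₂.triv_a _ hM hall w (by rw [Module.End.mem_eigenspace_iff, one_smul]; exact haw)
      rw [hbw] at h1
      apply hψ
      have h2 : (ψ - 1) • w = 0 := by rw [sub_smul, one_smul, h1, sub_self]
      rcases smul_eq_zero.1 h2 with h3 | h3
      · exact sub_eq_zero.1 h3
      · exact absurd h3 hw0
    obtain ⟨β, hβ, u, hu, hu0, hxu⟩ := exists_ne_one ρ hr0 D₂.xr (hM x₂ D₂.hx) hne
    rw [Module.End.mem_eigenspace_iff] at hu
    have h6 : ∀ α ∈ Or q t β, 6 ≤ Module.finrank k ((ρ x₂).eigenspace α) := by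
      intro α hα
      obtain ⟨i, -, rfl⟩ := mem_Or.1 hα
      refine D₁.six_le hr hr0 h50 (inv_eig (fun y hy => comm y hy x₂ D₂.hx) _) ?_
        ⟨s^[i] u, ?_, hs.iter_ne i hu0, ?_⟩
      · intro v hv hv1
        have h2 := P1 v hv1
        rw [Module.End.mem_eigenspace_iff, h2] at hv
        have h3 : (β ^ q ^ i - 1) • v = 0 := by rw [sub_smul, one_smul, ← hv, sub_self]
        rcases smul_eq_zero.1 h3 with h4 | h4
        · exact absurd (sub_eq_zero.1 h4) (pow_ne_one hq1 hβ i)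
        · exact h4
      · rw [Module.End.mem_eigenspace_iff]
        exact hs.iter i hxu
      · have := hs.iter i hu
        rwa [one_pow, one_smul] at this
    have h7 := Finset.card_nsmul_le_sum (Or q t β) (fun α => Module.finrank k ((ρ x₂).eigenspace α)) 6 h6
    rw [ht β (eig_pow hu0 hxu D₂.xr) hβ, smul_eq_mul] at h7
    have h8 := sum_le (ρ x₂) (Or q t β)
    omega
  · push Not at P1
    obtain ⟨w, hw1, hw2⟩ := P1
    -- the fixed vectors of `x₁`
    have h0 : t ≤ Module.finrank k ((ρ x₁).eigenspace 1) := by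
      have hM := inv_eig (ρ := ρ) (S := S₂) (z := x₁) (fun y hy => comm' y hy x₁ D₁.hx) 1
      obtain ⟨β, hβ, u, hu, hu0, hxu⟩ := exists_ne_one ρ hr0 D₂.xr (hM x₂ D₂.hx) (fun hall => hw2 (hall w (by
        rw [Module.End.mem_eigenspace_iff, one_smul]; exact hw1)))
      rw [← ht β (eig_pow hu0 hxu D₂.xr) hβ]
      refine card_le (ρ x₂) _ _ fun b hb => ?_
      obtain ⟨i, -, rfl⟩ := mem_Or.1 hb
      rw [Module.End.mem_eigenspace_iff] at hu
      refine ⟨s^[i] u, ?_, hs.iter_ne i hu0, hs.iter i hxu⟩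
      rw [Module.End.mem_eigenspace_iff]
      have := hs.iter i hu
      rwa [one_pow] at this
    -- eigenvalues of `x₁` on the eigenspaces of `a₂`
    have key : ∀ ψ : k, (∃ v : V, v ≠ 0 ∧ ∃ χ : k, χ ≠ 1 ∧ ρ a₁ v = χ • v ∧ ρ a₂ v = ψ • v) →
        ∃ α : k, α ≠ 1 ∧ ∃ v : V, v ≠ 0 ∧ ρ x₁ v = α • v ∧ ρ a₂ v = ψ • v := by
      rintro ψ ⟨v, hv0, χ, hχ, hav, hbv⟩
      have hM := inv_eig (ρ := ρ) (S := S₁) (z := a₂) (fun y hy => comm y hy a₂ D₂.ha) ψ
      have hne : ¬ ∀ v ∈ (ρ a₂).eigenspace ψ, ρ x₁ v = v := by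
        intro hall
        have h1 := D₁.triv_a _ hM hall v (by rw [Module.End.mem_eigenspace_iff]; exact hbv)
        rw [hav] at h1
        apply hχ
        have h2 : (χ - 1) • v = 0 := by rw [sub_smul, one_smul, h1, sub_self]
        rcases smul_eq_zero.1 h2 with h3 | h3
        · exact sub_eq_zero.1 h3
        · exact absurd h3 hv0
      obtain ⟨α, hα, u, hu, hu0, hxu⟩ := exists_ne_one ρ hr0 D₁.xr (hM x₁ D₁.hx) hne
      rw [Module.End.mem_eigenspace_iff] at hu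
      exact ⟨α, hα, u, hu0, hxu, hu⟩
    obtain ⟨v, hv0, χ, ψ, hχ, hψ, hav, hbv⟩ := e11
    obtain ⟨α₀, hα₀, u₀, hu₀, hxu₀, hau₀⟩ := key ψ ⟨v, hv0, χ, hχ, hav, hbv⟩
    obtain ⟨v', hv0', χ', hχ', hav', hbv'⟩ := e10
    obtain ⟨α', hα', u', hu', hxu', hau'⟩ := key 1 ⟨v', hv0', χ', hχ', hav', by rw [one_smul]; exact hbv'⟩
    set A := Or q t α₀ with hA
    set A' := Or q t α' with hA'
    have cA : A.card = t := ht α₀ (eig_pow hu₀ hxu₀ D₁.xr) hα₀
    have cA' : A'.card = t := ht α' (eig_pow hu' hxu' D₁.xr) hα'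
    have hcase : ∀ α : k, (if α ∈ A then 4 else 0) + (if α ∈ A' then 1 else 0) ≤
        Module.finrank k ((ρ x₁).eigenspace α) := by
      intro α
      have hE := inv_eig (ρ := ρ) (S := S₂) (z := x₁) (fun y hy => comm' y hy x₁ D₁.hx) α
      have f1 : α ∈ A → ∃ ψ' : k, ψ' ≠ 1 ∧ ∃ v ∈ (ρ x₁).eigenspace α, v ≠ 0 ∧ ρ a₂ v = ψ' • v := by
        intro hα
        obtain ⟨i, -, rfl⟩ := mem_Or.1 hα
        refine ⟨ψ ^ q ^ i, pow_ne_one hq1 hψ i, s^[i] u₀, ?_, hs.iter_ne i hu₀, hs.iter i hau₀⟩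
        rw [Module.End.mem_eigenspace_iff]
        exact hs.iter i hxu₀
      have f2 : α ∈ A' → ∃ v ∈ (ρ x₁).eigenspace α, v ≠ 0 ∧ ρ a₂ v = v := by
        intro hα
        obtain ⟨i, -, rfl⟩ := mem_Or.1 hα
        refine ⟨s^[i] u', ?_, hs.iter_ne i hu', ?_⟩
        · rw [Module.End.mem_eigenspace_iff]
          exact hs.iter i hxu'
        · have := hs.iter i hau'
          rwa [one_pow, one_smul] at this
      by_cases c1 : α ∈ A
      · obtain ⟨ψ', hψ', hv⟩ := f1 c1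
        by_cases c2 : α ∈ A'
        · rw [if_pos c1, if_pos c2]
          exact D₂.five_le hE hψ' hv (f2 c2)
        · rw [if_pos c1, if_neg c2]
          exact D₂.four_le hE hψ' hv
      · by_cases c2 : α ∈ A'
        · rw [if_neg c1, if_pos c2]
          obtain ⟨v, hv, hv0, -⟩ := f2 c2
          have : Nontrivial ((ρ x₁).eigenspace α) := ⟨⟨⟨v, hv⟩, 0, fun h => hv0 (congrArg Subtype.val h)⟩⟩
          have := Module.finrank_pos (R := k) (M := (ρ x₁).eigenspace α)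
          omega
        · rw [if_neg c1, if_neg c2]
          exact Nat.zero_le _
    have h1 : (1 : k) ∉ A ∪ A' := by
      rw [Finset.mem_union, not_or]
      constructor
      · intro hm
        obtain ⟨i, -, h⟩ := mem_Or.1 hm
        exact pow_ne_one hq1 hα₀ i h
      · intro hm
        obtain ⟨i, -, h⟩ := mem_Or.1 hm
        exact pow_ne_one hq1 hα' i h
    have h2 := sum_le (ρ x₁) (insert 1 (A ∪ A'))
    rw [Finset.sum_insert h1] at h2
    have h3 : ∑ α ∈ A ∪ A', ((if α ∈ A then 4 else 0) + (if α ∈ A' then 1 else 0)) ≤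
        ∑ α ∈ A ∪ A', Module.finrank k ((ρ x₁).eigenspace α) := Finset.sum_le_sum fun α _ => hcase α
    have h4 : ∑ α ∈ A ∪ A', ((if α ∈ A then 4 else 0) + (if α ∈ A' then 1 else 0)) = 4 * t + t := by
      rw [Finset.sum_add_distrib, Finset.sum_ite_mem, Finset.sum_ite_mem, Finset.union_inter_cancel_left,
        Finset.union_inter_cancel_right, Finset.sum_const, Finset.sum_const, cA, cA', smul_eq_mul, smul_eq_mul, mul_one,
        mul_comm]
    omega

end Cfsg.Agent.H315.TwF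
end

-- part: H315/TwF/Chars
section
/-!
# The characters of the elementary abelian group of order `25` of `²F₄(2)` (helper315)
-/

set_option autoImplicit false
set_option linter.unusedSectionVars false

namespace Cfsg.Agent.H315.TwF

open Cfsg.Agent.H927.LDTwF4 (Rels)

variable {k V G : Type*} [Field k] [AddCommGroup V] [Module k V] [Group G]

/-- a simple group acts trivially if one of its elements does -/
theorem triv {S : Subgroup G} (hS : IsSimpleGroup S) {ρ : G →* Module.End k V} {x : G} (hx : x ∈ S) (hx1 : x ≠ 1)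
    {M : Submodule k V} (hM : ∀ y ∈ S, ∀ v ∈ M, ρ y v ∈ M) (h : ∀ v ∈ M, ρ x v = v) {a : G} (ha : a ∈ S) :
    ∀ v ∈ M, ρ a v = v := by
  let N : Subgroup S :=
    { carrier := {y | ∀ v ∈ M, ρ (y : G) v = v}
      one_mem' := fun v _ => rone ρ v
      mul_mem' := by
        intro y z hy hz v hv
        show ρ ((y : G) * z) v = v
        rw [rmul, hz v hv, hy v hv]
      inv_mem' := by
        intro y hy v hv
        show ρ ((y : G)⁻¹) v = v
        conv_lhs => rw [← hy v hv]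
        exact rinv ρ _ v }
  have hN : N.Normal := by
    constructor
    intro y hy g v hv
    show ρ ((g : G) * y * (g : G)⁻¹) v = v
    rw [rmul, rmul, hy _ (hM _ (inv_mem g.2) v hv), rinv']
  rcases hS.eq_bot_or_eq_top_of_normal N hN with h1 | h1
  · exfalso
    apply hx1
    have h2 : (⟨x, hx⟩ : S) ∈ N := h
    rw [h1, Subgroup.mem_bot] at h2
    exact congrArg Subtype.val h2
  · have h2 : (⟨a, ha⟩ : S) ∈ N := by rw [h1]; trivial
    exact h2

section

variable {A B ga gb c : G} (h : Rels A B ga gb c)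
include h

theorem A5 : A ^ 5 = 1 := by rw [← h.A5]; simp only [pow_succ, pow_zero, one_mul]
theorem B5 : B ^ 5 = 1 := by rw [← h.B5]; simp only [pow_succ, pow_zero, one_mul]

theorem B_gb : B * gb⁻¹ = gb⁻¹ * B ^ 3 := by
  have e : B ^ 3 = B * B * B := by simp only [pow_succ, pow_zero, one_mul]
  calc B * gb⁻¹ = gb⁻¹ * (gb * B) * gb⁻¹ := by group
    _ = _ := by rw [h.gbB, e]; group

theorem A_gb : A * gb⁻¹ = gb⁻¹ * A := by
  calc A * gb⁻¹ = gb⁻¹ * (gb * A) * gb⁻¹ := by group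
    _ = _ := by rw [h.gbA]; group

theorem A_c : A * c⁻¹ = c⁻¹ * (A * A * B) := by
  calc A * c⁻¹ = c⁻¹ * (c * A) * c⁻¹ := by group
    _ = _ := by rw [h.cA]; group

theorem B_c : B * c⁻¹ = c⁻¹ * (A * B * B) := by
  calc B * c⁻¹ = c⁻¹ * (c * B) * c⁻¹ := by group
    _ = _ := by rw [h.cB]; group

variable {ρ : G →* Module.End k V}

/-- the action of `c` on the characters -/
theorem char_c {x y : k} (hv : ∃ v : V, v ≠ 0 ∧ ρ A v = x • v ∧ ρ B v = y • v) :
    ∃ v : V, v ≠ 0 ∧ ρ A v = (x ^ 2 * y) • v ∧ ρ B v = (x * y ^ 2) • v := by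
  obtain ⟨v, hv0, hxv, hyv⟩ := hv
  refine ⟨ρ c⁻¹ v, rne ρ _ hv0, ?_, ?_⟩
  · rw [← rmul, A_c h]
    simp only [rmul, hyv, hxv, map_smul, smul_smul]
    congr 1; ring
  · rw [← rmul, B_c h]
    simp only [rmul, hyv, hxv, map_smul, smul_smul]
    congr 1; ring

theorem char_b {x y : k} (hv : ∃ v : V, v ≠ 0 ∧ ρ A v = x • v ∧ ρ B v = y • v) (i : ℕ) :
    ∃ v : V, v ≠ 0 ∧ ρ A v = x • v ∧ ρ B v = (y ^ 3 ^ i) • v := by
  induction i with
  | zero => simpa only [_root_.ne_eq, _root_.pow_zero, _root_.pow_one] using hv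
  | succ i ih =>
    obtain ⟨v, hv0, hxv, hyv⟩ := ih
    refine ⟨ρ gb⁻¹ v, rne ρ _ hv0, ?_, ?_⟩
    · rw [← rmul, A_gb h, rmul, hxv, map_smul]
    · rw [← rmul, B_gb h, rmul, rpow ρ hyv, map_smul, ← pow_mul, ← pow_succ]

/-- **The characters.** -/
theorem chars [IsAlgClosed k] [FiniteDimensional k V] (h5 : (5 : k) ≠ 0) (hA : ρ A ≠ 1) :
    (∃ v : V, v ≠ 0 ∧ ∃ χ ψ : k, χ ≠ 1 ∧ ψ ≠ 1 ∧ ρ A v = χ • v ∧ ρ B v = ψ • v) ∧
    (∃ v : V, v ≠ 0 ∧ ∃ ψ : k, ψ ≠ 1 ∧ ρ A v = v ∧ ρ B v = ψ • v) ∧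
    (∃ v : V, v ≠ 0 ∧ ∃ χ : k, χ ≠ 1 ∧ ρ A v = χ • v ∧ ρ B v = v) := by
  -- an eigenvector
  obtain ⟨x, y, hx1, hv⟩ : ∃ x y : k, x ≠ 1 ∧ ∃ v : V, v ≠ 0 ∧ ρ A v = x • v ∧ ρ B v = y • v := by
    obtain ⟨x, hx1, u, -, hu0, hxu⟩ := exists_ne_one ρ (N := 5) (by exact_mod_cast h5) (A5 h) (M := ⊤)
      (fun _ _ => trivial) (fun hall => hA (by ext v; exact hall v trivial))
    have hinv : ∀ v ∈ (ρ A).eigenspace x, ρ B v ∈ (ρ A).eigenspace x := by
      intro v hv
      rw [Module.End.mem_eigenspace_iff] at hv ⊢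
      rw [← rmul, h.AB, rmul, hv, map_smul]
    have hne : Nontrivial ((ρ A).eigenspace x) := ⟨⟨⟨u, by rw [Module.End.mem_eigenspace_iff]; exact hxu⟩, 0,
      fun h => hu0 (congrArg Subtype.val h)⟩⟩
    obtain ⟨y, hy⟩ := Module.End.exists_eigenvalue ((ρ B).restrict hinv)
    obtain ⟨v, hv⟩ := hy.exists_hasEigenvector
    exact ⟨x, y, hx1, v, fun h => hv.2 (Subtype.ext h), Module.End.mem_eigenspace_iff.1 v.2,
      congrArg Subtype.val hv.apply_eq_smul⟩
  -- both nontrivial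
  have hx5 : ∀ {x y : k}, (∃ v : V, v ≠ 0 ∧ ρ A v = x • v ∧ ρ B v = y • v) → x ^ 5 = 1 ∧ y ^ 5 = 1 := by
    rintro x y ⟨v, hv0, hxv, hyv⟩
    exact ⟨eig_pow hv0 hxv (A5 h), eig_pow hv0 hyv (B5 h)⟩
  obtain ⟨x, y, hx1, hy1, hv⟩ : ∃ x y : k, x ≠ 1 ∧ y ≠ 1 ∧ ∃ v : V, v ≠ 0 ∧ ρ A v = x • v ∧ ρ B v = y • v := by
    by_cases hy : y = 1
    · subst hy
      refine ⟨x ^ 2, x, ?_, hx1, ?_⟩
      · intro h2
        apply hx1
        have hxx := (hx5 hv).1
        calc x = x ^ 5 * x := by rw [hxx, one_mul]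
          _ = (x ^ 2) ^ 3 := by ring
          _ = 1 := by rw [h2, one_pow]
      · have := char_c h hv
        rwa [mul_one, one_pow, mul_one] at this
    · exact ⟨x, y, hx1, hy, hv⟩
  obtain ⟨hx, hy⟩ := hx5 hv
  have hp : IsPrimitiveRoot x 5 := by
    have : Fact (Nat.Prime 5) := ⟨by norm_num⟩
    have := IsPrimitiveRoot.orderOf x
    rwa [orderOf_eq_prime hx hx1] at this
  obtain ⟨i, hi, rfl⟩ := hp.eq_pow_of_pow_eq_one hy
  have hi0 : i ≠ 0 := by
    rintro rfl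
    exact hy1 (pow_zero x)
  have hne : ∀ j : ℕ, ¬ 5 ∣ j → x ^ j ≠ 1 := fun j hj h1 => hj ((hp.pow_eq_one_iff_dvd j).1 h1)
  have hpw : ∀ e : ℕ, e % 5 ≠ 0 → ∃ j, x ^ (i * 3 ^ j) = x ^ e := by
    intro e he
    have key : ∀ i e : Fin 5, i ≠ 0 → e ≠ 0 → ∃ j : Fin 4, ((i : ℕ) * 3 ^ (j : ℕ)) % 5 = (e : ℕ) := by decide
    obtain ⟨j, hj⟩ := key ⟨i, hi⟩ ⟨e % 5, Nat.mod_lt _ (by norm_num)⟩ (fun h => hi0 (congrArg Fin.val h))
      (fun h => he (congrArg Fin.val h))
    refine ⟨j, ?_⟩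
    rw [pow_mod hx (i * 3 ^ (j : ℕ)), pow_mod hx e]
    exact congrArg _ hj
  refine ⟨?_, ?_, ?_⟩
  · obtain ⟨v, hv0, h1, h2⟩ := hv
    exact ⟨v, hv0, _, _, hx1, hy1, h1, h2⟩
  · obtain ⟨j, hj⟩ := hpw 3 (by norm_num)
    have h1 := char_b h hv j
    rw [← pow_mul, hj] at h1
    obtain ⟨v, hv0, h2, h3⟩ := char_c h h1
    refine ⟨v, hv0, x ^ 2, hne 2 (by norm_num), ?_, ?_⟩
    · rw [h2, ← pow_add, hx, one_smul]
    · rw [h3, ← pow_mul, mul_comm, ← pow_succ, pow_mod hx]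
  · obtain ⟨j, hj⟩ := hpw 2 (by norm_num)
    have h1 := char_b h hv j
    rw [← pow_mul, hj] at h1
    obtain ⟨v, hv0, h2, h3⟩ := char_c h h1
    refine ⟨v, hv0, x ^ 4, hne 4 (by norm_num), ?_, ?_⟩
    · rw [h2, ← pow_add]
    · rw [h3, ← pow_mul, mul_comm, ← pow_succ, pow_mod hx, show (2 * 2 + 1) % 5 = 0 by norm_num, pow_zero, one_smul]

end

end Cfsg.Agent.H315.TwF
end

-- part: H315/TwF/Grp
section
/-!
# `Sz(q) × Sz(q)` in `²F₄(q)` and the lower bound for the dimension (helper315)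
-/

set_option autoImplicit false
set_option linter.unusedSectionVars false

namespace Cfsg.Agent.H315.TwF

open Cfsg Cfsg.Lie
open Cfsg.Agent.H927.LDTwF4 (Rels same_eq w01 w10 wo wA wB wga wgb wc chk1 chk2 chk3 chk4 chk5 chk6 chk7 chk8 chk9
  ge01 ge10 go1 wA_ne)
open Cfsg.Agent.ChevalleyStructure.TwF4.Rel Cfsg.Agent.ChevalleyStructure.TwF4.RankOne Cfsg.Agent.ChevalleyStructure.TwF4.TwistedFix Cfsg.Agent.KFacts.TwF4 Cfsg.Agent.KFacts.TwF4.Inst
open Cfsg.Agent.KFacts.TwF4.Irr Cfsg.Agent.CpAutTwF.Cent Cfsg.Agent.H496.TwFRad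

/-! ### Suzuki groups -/

section suz

variable {P : Type*} [Group P]

theorem suz_simple (h : Lie.IsoSuzuki P) : IsSimpleGroup P := by
  obtain ⟨F, _, _, m, hm, hF, ⟨f⟩⟩ := h
  have := Cfsg.Agent.S1162.result hm hF
  exact f.isSimpleGroup

theorem suz_real (h : Lie.IsoSuzuki P) {x : P} {r : ℕ} (hr : Odd r) (hxr : x ^ r = 1) : ∃ g : P, x * g * x = g := by
  obtain ⟨F, _, _, m, hm, hF, ⟨f⟩⟩ := h
  by_cases hx1 : x = 1
  · exact ⟨1, by rw [hx1]; group⟩
  have hy1 : f x ≠ 1 := fun h => hx1 (f.injective (h.trans (map_one f).symm))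
  rcases Cfsg.Agent.H147.Sz.real hm hF (f x) hy1 with ⟨-, i, -, hi, h⟩ | ⟨a, b, h⟩
  · refine ⟨f.symm i, f.injective ?_⟩
    rw [map_mul, map_mul, MulEquiv.apply_symm_apply]
    have hii : i⁻¹ = i := inv_eq_of_mul_eq_one_left hi
    have h2 : i * f x = (f x)⁻¹ * i := by
      calc i * f x = i * f x * i * i⁻¹ := by group
        _ = (f x)⁻¹ * i := by rw [h, hii]
    rw [mul_assoc, h2]; group
  · exfalso
    obtain ⟨c, hc⟩ := isConj_iff.1 h
    have h4 : (LieRecognition.SzMatrix.good hF).u a b ^ 4 = 1 := by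
      rw [Cfsg.Agent.H84.SzLevi.four_eq, Cfsg.Agent.H147.Sz.u_sq, Cfsg.Agent.H147.Sz.u_sq, zero_mul,
        (LieRecognition.SzMatrix.good hF).u_zero]
    rw [← hc, conj_pow] at h4
    have h5 : (f x) ^ 4 = 1 := by
      have e : (f x) ^ 4 = c⁻¹ * (c * (f x) ^ 4 * c⁻¹) * c := by group
      rw [e, h4]; group
    have h6 : (f x) ^ r = 1 := by rw [← map_pow, hxr, map_one]
    have h7 := Nat.dvd_gcd (orderOf_dvd_of_pow_eq_one h5) (orderOf_dvd_of_pow_eq_one h6)
    have h8 : Nat.gcd 4 r = 1 := by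
      have : Nat.Coprime (2 ^ 2) r := Nat.Coprime.pow_left 2 (Nat.coprime_two_left.2 hr)
      exact this
    rw [h8, Nat.dvd_one, orderOf_eq_one_iff] at h7
    exact hy1 h7

end suz

theorem exists_side {k V G : Type*} [Field k] [AddCommGroup V] [Module k V] [Group G] (ρ : G →* Module.End k V)
    {S : Subgroup G} (hI : Lie.IsoSuzuki ↥S) {a h x : G} (ha : a ∈ S) (ha1 : a ≠ 1) (hh : h ∈ S) (a5 : a ^ 5 = 1)
    (hc : h * a = a ^ 3 * h) (hx : x ∈ S) (hx1 : x ≠ 1) {r : ℕ} (hr : Odd r) (hxr : x ^ r = 1) :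
    ∃ g, Side ρ r S a h x g := by
  obtain ⟨g, hg⟩ := suz_real hI (x := ⟨x, hx⟩) hr (Subtype.ext hxr)
  refine ⟨g, ha, hh, hx, g.2, a5, hc, hxr, congrArg Subtype.val hg, ?_, ?_⟩
  · exact fun M hM h1 => triv (suz_simple hI) hx hx1 hM h1 ha
  · exact fun M hM h1 => triv (suz_simple hI) ha ha1 hM h1 hx

/-! ### the elements of order five -/

section rels

variable {K : Type*} [Field K] [CharP K 2] [Fintype K] {φ : K →+* K} {m : ℕ}

theorem exists_rels_mem (hK : Fintype.card K = 2 ^ (2 * m + 1))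
    (hφ : Rln φ (2 ^ m)) :
    ∃ A B ga gb c : ↥(twistedF4 K (2 ^ m)), Rels A B ga gb c ∧ A ≠ 1 ∧ A ∈ L4 (full hK hφ) ∧ ga ∈ L4 (full hK hφ) ∧
      B ∈ M4 (full hK hφ) ∧ gb ∈ M4 (full hK hφ) := by
  set S := full hK hφ with hS
  have he : ∀ a p u, S.e a p u = re hφ a p u := fun a p u => rfl
  obtain ⟨A, hA, hA4⟩ : ∃ g : ↥(twistedF4 K (2 ^ m)), (g : GL chevF4.Idx K) = W1 K wA ∧ g ∈ L4 S := by
    refine ⟨re hφ 4 0 1 * re hφ 0 0 1, ?_, ?_⟩
    · change ge φ 4 0 1 * ge φ 0 0 1 = _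
      rw [ge01, ge01, ← W1_append]
      rfl
    · exact mul_mem (X8_L4 S (S.mX8 0 1)) (X0_L4 S (S.e_mem 0 0 1))
  have m6 : ∀ p u, re hφ 6 p u ∈ M4 S := fun p u =>
    le_sup_right (a := S.XZ 4) ((S.mem_XZ_even 6 _).2 ⟨p, u, rfl⟩)
  have m2 : ∀ p u, re hφ 2 p u ∈ M4 S := fun p u => le_sup_left (a := S.XZ 4) (S.mX4 p u)
  obtain ⟨B, hB, hB4⟩ : ∃ g : ↥(twistedF4 K (2 ^ m)), (g : GL chevF4.Idx K) = W1 K wB ∧ g ∈ M4 S := by
    refine ⟨re hφ 6 0 1 * re hφ 2 0 1, ?_, ?_⟩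
    · change ge φ 6 0 1 * ge φ 2 0 1 = _
      rw [ge01, ge01, ← W1_append]
      rfl
    · exact mul_mem (m6 0 1) (m2 0 1)
  obtain ⟨ga, ha, ha4⟩ : ∃ g : ↥(twistedF4 K (2 ^ m)), (g : GL chevF4.Idx K) = W1 K wga ∧ g ∈ L4 S :=
    ⟨re hφ 4 1 0, ge10 φ 4, X8_L4 S (S.mX8 1 0)⟩
  obtain ⟨gb, hb, hb4⟩ : ∃ g : ↥(twistedF4 K (2 ^ m)), (g : GL chevF4.Idx K) = W1 K wgb ∧ g ∈ M4 S :=
    ⟨re hφ 6 1 0, ge10 φ 6, m6 1 0⟩
  obtain ⟨c, hc⟩ : ∃ g : ↥(twistedF4 K (2 ^ m)), (g : GL chevF4.Idx K) = W1 K wc := by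
    refine ⟨re hφ 5 1 0 * ro hφ 1 1 * ro hφ 0 1 * re hφ 5 1 0 * re hφ 1 1 0, ?_⟩
    change ge φ 5 1 0 * go φ 1 1 * go φ 0 1 * ge φ 5 1 0 * ge φ 1 1 0 = _
    rw [ge10, go1, go1, ge10, ← W1_append, ← W1_append, ← W1_append, ← W1_append]
    rfl
  refine ⟨A, B, ga, gb, c, ⟨?_, ?_, ?_, ?_, ?_, ?_, ?_, ?_, ?_⟩, ?_, hA4, ha4, hB4, hb4⟩
  · apply Subtype.ext
    simp only [Subgroup.coe_mul, Subgroup.coe_one, hA, ← W1_append]
    exact same_eq chk1
  · apply Subtype.ext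
    simp only [Subgroup.coe_mul, Subgroup.coe_one, hB, ← W1_append]
    exact same_eq chk9
  · apply Subtype.ext
    simp only [Subgroup.coe_mul, hA, hB, ← W1_append]
    exact same_eq chk2
  · apply Subtype.ext
    simp only [Subgroup.coe_mul, hA, ha, ← W1_append]
    exact same_eq chk3
  · apply Subtype.ext
    simp only [Subgroup.coe_mul, hB, hb, ← W1_append]
    exact same_eq chk4
  · apply Subtype.ext
    simp only [Subgroup.coe_mul, hB, ha, ← W1_append]
    exact same_eq chk5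
  · apply Subtype.ext
    simp only [Subgroup.coe_mul, hA, hb, ← W1_append]
    exact same_eq chk6
  · apply Subtype.ext
    simp only [Subgroup.coe_mul, hA, hB, hc, ← W1_append]
    exact same_eq chk7
  · apply Subtype.ext
    simp only [Subgroup.coe_mul, hA, hB, hc, ← W1_append]
    exact same_eq chk8
  · intro h
    rw [h] at hA
    exact wA_ne hA.symm

end rels

/-! ### the bound -/

section bound

variable {K : Type*} [Field K] [Fintype K] {m : ℕ}

/-- **The bound.** `r` a prime divisor of `|K| ^ 2 + 1` -/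
theorem rep_bound {k V : Type*} [Field k] [IsAlgClosed k] (h5 : (5 : k) ≠ 0) [AddCommGroup V] [Module k V]
    [FiniteDimensional k V] (hm : 1 ≤ m) (hK : Fintype.card K = 2 ^ (2 * m + 1))
    (ρ : ↥(twistedF4 K (2 ^ m)) →* Module.End k V) (hρ : ∀ g, ρ g = 1 → g = 1) {r : ℕ} (hr : r.Prime) (hr2 : r ≠ 2)
    (hdvd : r ∣ Nat.card K * Nat.card K + 1) (hr0 : (r : k) ≠ 0) {q t : ℕ} {s : V → V} (hs : Semi ρ q s)
    (hq1 : ∀ α : k, α ^ q = 1 → α = 1) (ht : ∀ α : k, α ^ r = 1 → α ≠ 1 → (Or q t α).card = t) :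
    6 * t ≤ Module.finrank k V := by
  have := Cfsg.Agent.ChevalleyStructure.TwF4.Twisted.charP_two hK
  have hfr : Fact r.Prime := ⟨hr⟩
  obtain ⟨φ, hφ⟩ := exists_rln hK
  obtain ⟨A, B, ga, gb, c, h, hA1, hA, hga, hB, hgb⟩ := exists_rels_mem hK hφ
  obtain ⟨S, hS⟩ : ∃ S : Full φ ↥(twistedF4 K (2 ^ m)), S = full hK hφ := ⟨_, rfl⟩
  rw [← hS] at hA hga hB hgb
  have hK' : Nat.card K = 2 ^ (2 * m + 1) := by rw [Nat.card_eq_fintype_card, hK]
  have hI : Lie.IsoSuzuki ↥(L4 S) := by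
    have h1 := Cfsg.Agent.H84.GaussTwF4.LL_iso S (k := 2 * m + 1) (by omega) hK'
    rw [Cfsg.Agent.H84.GaussTwF4.LJ_eq] at h1
    have h2 : H84.GaussTwF4.LL S = L4 S := sup_comm _ _
    rwa [h2] at h1
  have e : ↥(L4 S) ≃* ↥(M4 S) := ((L4 S).equivMapOfInjective (S.ck 2).toMonoidHom (S.ck 2).injective).trans
    (MulEquiv.subgroupCongr (map_L4 S))
  have hI' : Lie.IsoSuzuki ↥(M4 S) := by
    obtain ⟨F, i1, i2, n, hn, hF, ⟨f⟩⟩ := hI
    exact ⟨F, i1, i2, n, hn, hF, ⟨e.symm.trans f⟩⟩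
  have hFu : ∃ d : Kˣ, d ≠ 1 := by
    have h1 : 1 < Nat.card Kˣ := by
      rw [Nat.card_units, hK']
      have : 2 ^ 3 ≤ 2 ^ (2 * m + 1) := Nat.pow_le_pow_right (by norm_num) (by omega)
      omega
    have h2 : Nontrivial Kˣ := Finite.one_lt_card_iff_nontrivial.1 h1
    exact exists_ne 1
  have hdL : r ∣ Nat.card (L4 S) := by
    rw [Levi.card_L4 S hFu]
    exact Dvd.dvd.mul_left hdvd _
  obtain ⟨x₁, hx₁⟩ := exists_prime_orderOf_dvd_card' r hdL
  have hdM : r ∣ Nat.card (M4 S) := by rw [← Nat.card_congr e.toEquiv]; exact hdL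
  obtain ⟨x₂, hx₂⟩ := exists_prime_orderOf_dvd_card' r hdM
  have hodd : Odd r := hr.odd_of_ne_two hr2
  have key : ∀ {H : Subgroup ↥(twistedF4 K (2 ^ m))} (x : H), orderOf x = r → (x : ↥(twistedF4 K (2 ^ m))) ≠ 1 ∧
      (x : ↥(twistedF4 K (2 ^ m))) ^ r = 1 := by
    intro H x hx
    have h1 : x ^ r = 1 := by rw [← hx]; exact pow_orderOf_eq_one x
    refine ⟨?_, congrArg Subtype.val h1⟩
    intro h2
    have h3 : x = 1 := Subtype.ext h2
    rw [h3, orderOf_one] at hx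
    exact hr.one_lt.ne hx
  obtain ⟨hx₁1, hx₁r⟩ := key x₁ hx₁
  obtain ⟨hx₂1, hx₂r⟩ := key x₂ hx₂
  have hB1 : B ≠ 1 := by
    intro hB1
    have h1 := h.cB
    rw [hB1, mul_one, mul_one, mul_one] at h1
    exact hA1 (mul_eq_right.1 h1.symm)
  have cube : ∀ X : ↥(twistedF4 K (2 ^ m)), X * X * X = X ^ 3 := fun X => by
    simp only [pow_succ, pow_zero, one_mul]
  obtain ⟨g₁, D₁⟩ := exists_side ρ hI hA hA1 hga (A5 h) (by rw [← cube]; exact h.gaA) x₁.2 hx₁1 hodd hx₁r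
  obtain ⟨g₂, D₂⟩ := exists_side ρ hI' hB hB1 hgb (B5 h) (by rw [← cube]; exact h.gbB) x₂.2 hx₂1 hodd hx₂r
  obtain ⟨e11, e01, e10⟩ := chars h h5 (fun h1 => hA1 (hρ A h1))
  exact six_mul_le hodd hr0 h5 D₁ D₂ (fun y hy z hz => L4_comm_M4 S hy hz) hs hq1 ht e11 e01 e10

end bound

end Cfsg.Agent.H315.TwF
end
end

-- part: H315/TwF/Main
section
prune_inst 0x10064047000000000000510100020202400049000000000e0c0024002098040800000010a00000002a000001000002000440020400000000a000000001900208002000090080000000001000080000000000000000000000000000000000000000000000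
set_option linter.all false
open scoped Cfsg.Agent.FastGrp

/-!
# TEAM PPD (S5948): `²F₄(Q)` in characteristic two (helper315)

A nontrivial representation of `²F₄(Q)`, `Q = 2 ^ (2 m + 1)`, over the field with `q` elements, `q` even, has dimension at
least `6 t`, `t` the order of `q` modulo a primitive prime divisor of `Q ^ 4 - 1`, and `k ≤ 3 t` if `k` is the order of `q`
modulo a prime divisor of `|²F₄(Q)|`.
-/

set_option autoImplicit false
set_option linter.unusedSectionVars false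

namespace Cfsg.Agent.H315.TwF

open Cfsg Cfsg.Geo Matrix
open Cfsg.Agent.H915.LD Cfsg.Agent.H100.Ppd Cfsg.Agent.H905.Md

universe u

section semi

variable {F : Type u} [Field F] [Finite F] {ι : Type} [Fintype ι] [DecidableEq ι] {G : Type*} [Group G]

/-- the `q`-semilinear map on `k^ι` -/
noncomputable def frobV (F : Type u) [Field F] (ι : Type) (v : ι → AlgebraicClosure F) : ι → AlgebraicClosure F :=
  fun i => v i ^ Nat.card F

theorem semi_frob (φ : G →* GL ι F) : Semi (Cfsg.Agent.H911.lin (acRep φ)) (Nat.card F) (frobV F ι) := by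
  have : Fintype F := Fintype.ofFinite F
  obtain ⟨p, hp⟩ := CharP.exists F
  have hpp : Fact p.Prime := ⟨CharP.char_is_prime F p⟩
  have : CharP (AlgebraicClosure F) p := charP_of_injective_algebraMap (algebraMap F _).injective p
  obtain ⟨d, -, hd⟩ := FiniteField.card F p
  have hq : Nat.card F = p ^ (d : ℕ) := by rw [Nat.card_eq_fintype_card, hd]
  refine ⟨?_, ?_, ?_⟩
  · intro g v
    rw [Cfsg.Agent.H911.lin_apply, Cfsg.Agent.H911.lin_apply, acRep_apply]
    funext i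
    unfold frobV
    simp only [Matrix.mulVec, dotProduct, Matrix.map_apply]
    rw [hq, sum_pow_char_pow]
    refine Finset.sum_congr rfl fun j _ => ?_
    rw [mul_pow, ← map_pow, ← hd, FiniteField.pow_card]
  · intro c v
    funext i
    unfold frobV
    rw [Pi.smul_apply, Pi.smul_apply, smul_eq_mul, smul_eq_mul, mul_pow]
  · intro v hv h
    apply hv
    funext i
    have h1 := congrFun h i
    exact (pow_eq_zero_iff (Nat.card_pos (α := F)).ne').1 h1

end semi

/-- the orders modulo `r` -/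
theorem card_Or {k : Type*} [Field k] {r q : ℕ} (hr : r.Prime) {α : k} (hα : α ^ r = 1) (h1 : α ≠ 1) :
    (Or q (orderOf (q : ZMod r)) α).card = orderOf (q : ZMod r) := by
  classical
  have hfr : Fact r.Prime := ⟨hr⟩
  unfold Or
  rw [Finset.card_image_of_injOn, Finset.card_range]
  intro i hi j hj h
  have ho : orderOf α = r := orderOf_eq_prime hα h1
  have h2 : q ^ i ≡ q ^ j [MOD r] := by
    dsimp only at h
    rw [← pow_mod_orderOf α (q ^ i), ← pow_mod_orderOf α (q ^ j), ho] at h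
    have h4 := pow_injOn_Iio_orderOf (x := α) (by rw [ho]; exact Nat.mod_lt _ hr.pos)
      (by rw [ho]; exact Nat.mod_lt _ hr.pos) h
    exact h4
  have h3 : ((q : ZMod r)) ^ i = (q : ZMod r) ^ j := by
    have := (ZMod.natCast_eq_natCast_iff _ _ _).2 h2
    push_cast at this
    exact this
  rw [Finset.coe_range] at hi hj
  exact pow_injOn_Iio_orderOf hi hj h3

/-- the order of a number modulo `r`, and exponents -/
theorem num_aux {r r' d N : ℕ} (hN : r ∣ 2 ^ (3 * N) - 1) (hr' : ∀ n, r' ∣ 2 ^ n - 1 ↔ N ∣ n) (hr'p : r'.Prime) :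
    (((2 ^ d : ℕ)) : ZMod r) ^ (3 * orderOf ((2 ^ d : ℕ) : ZMod r')) = 1 := by
  have hfr : Fact r'.Prime := ⟨hr'p⟩
  set t := orderOf ((2 ^ d : ℕ) : ZMod r') with ht
  have key : ∀ (R n : ℕ), R ∣ 2 ^ n - 1 ↔ ((2 : ℕ) : ZMod R) ^ n = 1 := by
    intro R n
    have h1 : 1 ≤ 2 ^ n := Nat.one_le_two_pow
    rw [← ZMod.natCast_eq_zero_iff, Nat.cast_sub h1, Nat.cast_pow, Nat.cast_one, sub_eq_zero]
  have h1 : N ∣ d * t := by
    rw [← hr', key, pow_mul]
    have := pow_orderOf_eq_one ((2 ^ d : ℕ) : ZMod r')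
    rw [← ht, Nat.cast_pow] at this
    exact this
  obtain ⟨c, hc⟩ := h1
  have h2 : ((2 : ℕ) : ZMod r) ^ (3 * N) = 1 := (key r _).1 hN
  rw [Nat.cast_pow, ← pow_mul]
  have e : d * (3 * t) = 3 * N * c := by
    calc d * (3 * t) = 3 * (d * t) := by ring
      _ = _ := by rw [hc]; ring
  rw [e, pow_mul, h2, one_pow]

variable {n : ℕ} {F : Type u} [Field F] [Finite F] {k m : ℕ} {P : Subgroup (GL (Fin n) F)}

/-- **`²F₄(Q)` in characteristic two does not occur.** -/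
theorem not_2f4 (h : Row k m P) {p : ℕ} [CharP F p] (hg : ∃ r, r.Prime ∧ r ∣ m ∧ r ∣ Nat.card (Soc P)) (hp : p = 2)
    (hT : Lie.Iso2F4 (Soc P)) : False := by
  subst hp
  obtain ⟨K, _, _, l, hl, hK, ⟨e⟩⟩ := hT
  have hp2 : Fact (Nat.Prime 2) := ⟨Nat.prime_two⟩
  have hFin : Fintype F := Fintype.ofFinite F
  obtain ⟨φ, -, hker, -⟩ := exists_cover (p := 2) h.core.perfect e (Cfsg.Agent.S1112.result hK hl)
    (fun r hr hr2 => Cfsg.Agent.H67.TwFFourOdd.noPCov_odd hl hK hr hr2) (πG := MonoidHom.id _) Function.surjective_id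
    (by rw [MonoidHom.ker_id]; exact bot_le)
  -- the numbers
  obtain ⟨d, -, hd⟩ := FiniteField.card F 2
  have hq : Nat.card F = 2 ^ (d : ℕ) := by rw [Nat.card_eq_fintype_card, hd]
  set N := 4 * (2 * l + 1) with hN
  obtain ⟨r', hr', hprim, hr'N, hr'2⟩ := Cfsg.Agent.Lib.Zsigmondy.exists_primitive (a := 2) (n := N) le_rfl (by omega)
    (fun h => by omega) (by omega)
  have hr'ne : r' ≠ 2 := fun h => hr'2 (h ▸ dvd_rfl)
  obtain ⟨Q, hQ⟩ : ∃ Q, Q = 2 ^ (2 * l + 1) := ⟨_, rfl⟩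
  have hQ1 : 1 ≤ Q := by rw [hQ]; exact Nat.one_le_two_pow
  have hr'Q : r' ∣ Nat.card K * Nat.card K + 1 := by
    have h1 : r' ∣ 2 ^ N - 1 := (hprim N).2 dvd_rfl
    have h2 : ¬ r' ∣ 2 ^ (2 * (2 * l + 1)) - 1 := fun h3 => by
      have := Nat.le_of_dvd (by omega) ((hprim _).1 h3)
      omega
    rw [Nat.card_eq_fintype_card, hK, ← hQ]
    have h3 : 2 ^ N - 1 = (2 ^ (2 * (2 * l + 1)) - 1) * (Q * Q + 1) := by
      have e1 : 2 ^ N = Q * Q * (Q * Q) := by rw [hQ, hN, ← pow_add, ← pow_add]; congr 1; ring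
      have e2 : 2 ^ (2 * (2 * l + 1)) = Q * Q := by rw [hQ, ← pow_add]; congr 1; ring
      rw [e1, e2]
      obtain ⟨c, hc⟩ : ∃ c, Q * Q = c + 1 := ⟨Q * Q - 1, by
        have : 1 ≤ Q * Q := Nat.one_le_iff_ne_zero.2 (by positivity)
        omega⟩
      rw [hc, Nat.add_sub_cancel]
      apply Nat.sub_eq_of_eq_add
      ring
    rw [h3] at h1
    exact (hr'.dvd_mul.1 h1).resolve_left h2
  -- the bound
  set kk := AlgebraicClosure F with hkk
  have hch : CharP kk 2 := charP_of_injective_algebraMap (algebraMap F _).injective 2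
  have hodd : ∀ a : ℕ, ¬ 2 ∣ a → (a : kk) ≠ 0 := fun a ha h0 => ha ((CharP.cast_eq_zero_iff kk 2 a).1 h0)
  have hbound : 6 * orderOf ((Nat.card F : ℕ) : ZMod r') ≤ n := by
    have h1 := rep_bound (K := K) (m := l) (by exact_mod_cast hodd 5 (by norm_num)) hl hK
      (Cfsg.Agent.H911.lin (acRep φ)) (r := r') ?_ hr' hr'ne hr'Q (hodd r' (fun h => hr'ne
        ((Nat.prime_dvd_prime_iff_eq Nat.prime_two hr').1 h).symm)) (semi_frob φ) ?_
        (fun α h1 h2 => card_Or hr' h1 h2)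
    · rwa [Module.finrank_pi, Fintype.card_fin] at h1
    · intro g hg
      have h6 : φ g = 1 := by
        apply Units.ext
        have h7 : acRep φ g = 1 := by
          have := congrArg LinearMap.toMatrix' hg
          simpa [Cfsg.Agent.H911.lin] using this
        rw [acRep_apply] at h7
        apply Matrix.map_injective (algebraMap F (AlgebraicClosure F)).injective
        refine h7.trans ?_
        ext i j
        simp [Matrix.one_apply, apply_ite (algebraMap F (AlgebraicClosure F))]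
      have h8 : g ∈ φ.ker := h6
      have h9 := hker h8
      rwa [MonoidHom.ker_id, Subgroup.mem_bot] at h9
    · intro α hα
      have h2 : (α - 1) ^ Nat.card F = 0 := by
        rw [hq, sub_pow_char_pow, one_pow, ← hq, hα, sub_self]
      exact sub_eq_zero.1 ((pow_eq_zero_iff (Nat.card_pos (α := F)).ne').1 h2)
  -- the prime of the row
  obtain ⟨r, hr, hrm, hrT⟩ := hg
  have hr2 : r ≠ 2 := by
    rintro rfl
    have := h.num.seven_le hr hrm
    omega
  have hrN : r ∣ 2 ^ (3 * N) - 1 := by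
    rw [Nat.card_congr e.toEquiv, Cfsg.Agent.S1068.result hK, ← hQ] at hrT
    have e1 : 2 ^ (3 * N) = Q ^ 12 := by rw [hQ, ← pow_mul]; congr 1; rw [hN]; ring
    rw [e1]
    have hpow : ∀ a b : ℕ, a ∣ b → Q ^ a - 1 ∣ Q ^ b - 1 := fun a b hab => Nat.pow_sub_one_dvd_pow_sub_one Q hab
    have hsucc : ∀ a : ℕ, Q ^ a + 1 ∣ Q ^ (2 * a) - 1 := by
      intro a
      have h1 : 1 ≤ Q ^ a := Nat.one_le_pow _ _ hQ1
      refine ⟨Q ^ a - 1, ?_⟩
      obtain ⟨c, hc⟩ : ∃ c, Q ^ a = c + 1 := ⟨Q ^ a - 1, by omega⟩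
      rw [two_mul, pow_add, hc, Nat.add_sub_cancel]
      apply Nat.sub_eq_of_eq_add
      ring
    rcases hr.dvd_mul.1 hrT with h1 | h1
    · rcases hr.dvd_mul.1 h1 with h1 | h1
      · rcases hr.dvd_mul.1 h1 with h1 | h1
        · rcases hr.dvd_mul.1 h1 with h1 | h1
          · exfalso
            have h2 := hr.dvd_of_dvd_pow h1
            rw [hQ] at h2
            exact hr2 ((Nat.prime_dvd_prime_iff_eq hr Nat.prime_two).1 (hr.dvd_of_dvd_pow h2))
          · refine h1.trans ?_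
            have := hpow 1 12 (one_dvd _)
            rwa [pow_one] at this
        · exact h1.trans ((hsucc 3).trans (hpow 6 12 ⟨2, rfl⟩))
      · exact h1.trans (hpow 4 12 ⟨3, rfl⟩)
    · exact h1.trans (hsucc 6)
  have h1 := num_aux (d := d) hrN hprim hr'
  rw [← hq] at h1
  have h2 := (h.num.pow_eq_one_iff hr hrm _).1 h1
  have h3 : 0 < orderOf ((Nat.card F : ℕ) : ZMod r') := by
    have hfr : Fact r'.Prime := ⟨hr'⟩
    rw [orderOf_pos_iff, isOfFinOrder_iff_pow_eq_one]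
    refine ⟨r' - 1, by have := hr'.one_lt; omega, ZMod.pow_card_sub_one_eq_one ?_⟩
    rw [Ne, ZMod.natCast_eq_zero_iff, hq]
    exact fun h => hr'2 (hr'.dvd_of_dvd_pow h)
  have h4 := Nat.le_of_dvd (by omega) h2
  have h5 := h.num.nlt
  omega

end Cfsg.Agent.H315.TwF
end
end
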